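import Groth.Prelude.Def_DRing2
import Groth.Agent.PerfLocal.Perfect
import Mathlib.Algebra.Homology.Double
import Mathlib.Algebra.Homology.DerivedCategory.Linear
import Mathlib.Algebra.Homology.DerivedCategory.KProjective
import Mathlib.Algebra.Category.ModuleCat.Projective

/-!
# Scalars killing maps out of a two-term complex
-/

set_option autoImplicit false
set_option backward.isDefEq.respectTransparency false

universe u

open CategoryTheory Limits HomologicalComplex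

attribute [local instance] HasDerivedCategory.standard

namespace Groth.Agent.JacExt

variable {R : Type u} [CommRing R]

/-- The two-term complex in degrees `-1, 0`. -/
noncomputable abbrev dbl {X₁ X₀ : ModuleCat.{u} R} (L : X₁ ⟶ X₀) : DRing.Cx R :=
  HomologicalComplex.double L (show (ComplexShape.up ℤ).Rel (-1) 0 by simp)

theorem exists_homotopic {X₁ X₀ : ModuleCat.{u} R} (L : X₁ ⟶ X₀) (g : R) (H : X₀ ⟶ X₁) (hH : L ≫ H = g • 𝟙 X₁) :
    ∃ v : dbl L ⟶ dbl L, Nonempty (Homotopy (g • 𝟙 (dbl L)) v) ∧ v.f (-1) = 0 ∧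
      (H ≫ L = g • 𝟙 X₀ → v = 0) := by
  have hr : (ComplexShape.up ℤ).Rel (-1) 0 := by simp
  let e₁ := doubleXIso₀ L hr
  let e₀ := doubleXIso₁ L hr (by omega)
  let h : ∀ i j, (ComplexShape.up ℤ).Rel j i → ((dbl L).X i ⟶ (dbl L).X j) := fun i j _ =>
    if hi : i = 0 ∧ j = -1 then eqToHom (by rw [hi.1]) ≫ e₀.hom ≫ H ≫ e₁.inv ≫ eqToHom (by rw [hi.2]) else 0
  let Nm := Homotopy.nullHomotopicMap' h
  have hneg : Nm.f (-1) = (g • 𝟙 (dbl L)).f (-1) := by
    rw [Homotopy.nullHomotopicMap'_f (k₂ := -2) (k₀ := 0) (by simp) hr]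
    simp only [h, dif_neg (show ¬((-1 : ℤ) = 0 ∧ (-2 : ℤ) = -1) by omega), zero_comp, add_zero,
      dif_pos (show (0 : ℤ) = 0 ∧ (-1 : ℤ) = -1 by simp)]
    rw [double_d L hr (by omega)]
    simp only [eqToHom_refl, Category.id_comp, Category.comp_id, Category.assoc, smul_f_apply, id_f]
    show e₁.hom ≫ L ≫ e₀.inv ≫ e₀.hom ≫ H ≫ e₁.inv = _
    rw [e₀.inv_hom_id_assoc, ← Category.assoc L, hH, Linear.smul_comp, Linear.comp_smul, Category.id_comp,
      e₁.hom_inv_id]
  have hzero : H ≫ L = g • 𝟙 X₀ → Nm.f 0 = (g • 𝟙 (dbl L)).f 0 := by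
    intro hHL
    rw [Homotopy.nullHomotopicMap'_f (k₂ := -1) (k₀ := 1) hr (by simp)]
    simp only [h, dif_neg (show ¬((1 : ℤ) = 0 ∧ (0 : ℤ) = -1) by omega), comp_zero, zero_add,
      dif_pos (show (0 : ℤ) = 0 ∧ (-1 : ℤ) = -1 by simp)]
    rw [double_d L hr (by omega)]
    simp only [eqToHom_refl, Category.id_comp, Category.comp_id, Category.assoc, smul_f_apply, id_f]
    show e₀.hom ≫ H ≫ e₁.inv ≫ e₁.hom ≫ L ≫ e₀.inv = _
    rw [e₁.inv_hom_id_assoc, ← Category.assoc H, hHL, Linear.smul_comp, Linear.comp_smul, Category.id_comp,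
      e₀.hom_inv_id]
  refine ⟨g • 𝟙 (dbl L) - Nm, ⟨?_⟩, ?_, fun hHL => ?_⟩
  · have H' := (Homotopy.refl (g • 𝟙 (dbl L) - Nm)).add (Homotopy.nullHomotopy' h)
    exact (Homotopy.ofEq (by simp [Nm])).trans (H'.trans (Homotopy.ofEq (by simp)))
  · rw [sub_f_apply, hneg, sub_self]
  · refine to_double_hom_ext ?_ ?_
    · rw [sub_f_apply, hneg, sub_self]; rfl
    · rw [sub_f_apply, hzero hHL, sub_self]; rfl

theorem smul_id_eq_zero {X₁ X₀ : ModuleCat.{u} R} (L : X₁ ⟶ X₀) (g : R) (H : X₀ ⟶ X₁)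
    (hH : L ≫ H = g • 𝟙 X₁) (hH' : H ≫ L = g • 𝟙 X₀) : g • 𝟙 (DRing.toD (dbl L)) = 0 := by
  obtain ⟨v, ⟨hv⟩, -, hv0⟩ := exists_homotopic L g H hH
  have := DerivedCategory.Qh.congr_map (HomotopyCategory.eq_of_homotopy _ _ hv)
  have e := (DerivedCategory.quotientCompQhIso (ModuleCat.{u} R)).hom.naturality
  have hQ : DerivedCategory.Q.map (g • 𝟙 (dbl L)) = DerivedCategory.Q.map v := by
    rw [← cancel_epi ((DerivedCategory.quotientCompQhIso (ModuleCat.{u} R)).hom.app (dbl L)), ← e, ← e]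
    exact congrArg (· ≫ _) this
  rw [hv0 hH', Functor.map_zero, Functor.map_smul, CategoryTheory.Functor.map_id] at hQ
  exact hQ

theorem smul_hom_eq_zero {X₁ X₀ : ModuleCat.{u} R} (L : X₁ ⟶ X₀) [Projective X₀] (g : R) (H : X₀ ⟶ X₁)
    (hH : L ≫ H = g • 𝟙 X₁) (N : ModuleCat.{u} R)
    (φ : DRing.toD (dbl L) ⟶ ((DerivedCategory.singleFunctor (ModuleCat.{u} R) 0).obj N)⟦(1 : ℤ)⟧) :
    g • φ = 0 := by
  obtain ⟨v, ⟨hv⟩, hv1, -⟩ := exists_homotopic L g H hH
  have e := (DerivedCategory.quotientCompQhIso (ModuleCat.{u} R)).hom.naturality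
  have hQ : DerivedCategory.Q.map (g • 𝟙 (dbl L)) = DerivedCategory.Q.map v := by
    rw [← cancel_epi ((DerivedCategory.quotientCompQhIso (ModuleCat.{u} R)).hom.app (dbl L)), ← e, ← e]
    exact congrArg (· ≫ _) (DerivedCategory.Qh.congr_map (HomotopyCategory.eq_of_homotopy _ _ hv))
  have hr : (ComplexShape.up ℤ).Rel (-1) 0 := by simp
  let e₀ := doubleXIso₁ L hr (by omega)
  let S : DRing.Cx R := (HomologicalComplex.single (ModuleCat.{u} R) (ComplexShape.up ℤ) 0).obj X₀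
  let ι : S ⟶ dbl L := mkHomFromSingle e₀.inv (fun j hj => by
    rw [double_d_eq_zero₀ L hr _ _ (by omega), comp_zero])
  let p : dbl L ⟶ S := mkHomToSingle (v.f 0 ≫ e₀.hom) (fun i hi => by
    obtain rfl : i = -1 := by
      simp only [ComplexShape.up_Rel] at hi
      omega
    rw [← Category.assoc, ← v.comm, hv1, zero_comp, zero_comp])
  have hp : v = p ≫ ι := by
    refine from_double_hom_ext ?_ ?_
    · rw [hv1, comp_f, (isZero_single_obj_X (ComplexShape.up ℤ) 0 X₀ (-1) (by omega)).eq_of_tgt (p.f (-1)) 0,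
        zero_comp]
    · simp [p, ι]
  haveI : ∀ i, Projective (S.X i) := fun i => by
    by_cases hi : i = 0
    · subst hi
      exact Projective.of_iso (singleObjXSelf (ComplexShape.up ℤ) 0 X₀).symm inferInstance
    · exact (isZero_single_obj_X (ComplexShape.up ℤ) 0 X₀ i hi).projective
  haveI : CochainComplex.IsStrictlyLE S 0 :=
    (CochainComplex.isStrictlyLE_iff _ _).2 fun i hi => isZero_single_obj_X _ _ _ i (by omega)
  haveI := CochainComplex.isKProjective_of_projective S 0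
  let T : DRing.Cx R := ((HomologicalComplex.single (ModuleCat.{u} R) (ComplexShape.up ℤ) 0).obj N)⟦(1 : ℤ)⟧
  let eT : ((DerivedCategory.singleFunctor (ModuleCat.{u} R) 0).obj N)⟦(1 : ℤ)⟧ ≅ DerivedCategory.Q.obj T :=
    (shiftFunctor _ (1 : ℤ)).mapIso ((DerivedCategory.singleFunctorIsoCompQ (ModuleCat.{u} R) 0).app N) ≪≫
      ((DerivedCategory.Q.commShiftIso (1 : ℤ)).app _).symm
  obtain ⟨w, hw⟩ := PerfLocal.exists_lift (DerivedCategory.Q.map ι ≫ φ ≫ eT.hom)
  have hw0 : w = 0 := by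
    refine HomologicalComplex.hom_ext _ _ fun i => ?_
    by_cases hi : i = 0
    · subst hi
      exact (isZero_single_obj_X (ComplexShape.up ℤ) 0 N (0 + 1) (by omega)).eq_of_tgt _ _
    · exact (isZero_single_obj_X (ComplexShape.up ℤ) 0 X₀ i hi).eq_of_src _ _
  have hιφ : DerivedCategory.Q.map ι ≫ φ = 0 := by
    rw [← cancel_mono eT.hom, Category.assoc, zero_comp, ← hw, hw0, Functor.map_zero]
  calc g • φ = (g • 𝟙 (DRing.toD (dbl L))) ≫ φ := by rw [Linear.smul_comp, Category.id_comp]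
    _ = DerivedCategory.Q.map (g • 𝟙 (dbl L)) ≫ φ := by rw [Functor.map_smul, CategoryTheory.Functor.map_id]
    _ = DerivedCategory.Q.map p ≫ DerivedCategory.Q.map ι ≫ φ := by
      rw [hQ, hp, Functor.map_comp, Category.assoc]
    _ = 0 := by rw [hιφ, comp_zero]

end Groth.Agent.JacExt
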