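import Mathlib.RingTheory.Extension.Cotangent.Basic
import Mathlib.RingTheory.Extension.Generators
import Mathlib.LinearAlgebra.Matrix.Adjugate
import Mathlib.LinearAlgebra.Matrix.NonsingularInverse

/-!
# The Jacobian determinant as a homotopy on the naive cotangent complex
-/

set_option autoImplicit false
set_option backward.isDefEq.respectTransparency false

universe u

open Algebra MvPolynomial

noncomputable section

namespace Groth.Agent.JacExt

variable (A : Type u) [CommRing A] (n m : ℕ) (hmn : m ≤ n) (f : Fin m → MvPolynomial (Fin n) A)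

local notation "B" => MvPolynomial (Fin n) A ⧸ Ideal.span (Set.range f)

/-- The standard presentation. -/
def gens : Generators A B (Fin n) :=
  Generators.ofAlgHom (Ideal.Quotient.mkₐ A (Ideal.span (Set.range f))) Ideal.Quotient.mk_surjective

theorem aeval_gens (p : MvPolynomial (Fin n) A) :
    aeval (gens A n m f).val p = Ideal.Quotient.mk (Ideal.span (Set.range f)) p := by
  refine DFunLike.congr_fun (MvPolynomial.algHom_ext (g := Ideal.Quotient.mkₐ A (Ideal.span (Set.range f)))
    fun i => ?_) p
  simp [gens, Generators.ofAlgHom, Generators.ofSurjective]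

/-- The Jacobian matrix in the first `m` variables. -/
abbrev jac : Matrix (Fin m) (Fin m) B :=
  Matrix.of fun i j => Ideal.Quotient.mk (Ideal.span (Set.range f)) (pderiv (Fin.castLE hmn i) (f j))

theorem det_jac : Ideal.Quotient.mk (Ideal.span (Set.range f))
    (Matrix.det (Matrix.of (fun i j : Fin m => pderiv (Fin.castLE hmn i) (f j)))) = (jac A n m hmn f).det :=
  RingHom.map_det _ _

theorem exists_homotopy_std :
    ∃ h : (gens A n m f).toExtension.CotangentSpace →ₗ[B] (gens A n m f).toExtension.Cotangent,
      (∀ x, h ((gens A n m f).toExtension.cotangentComplex x) = (jac A n m hmn f).det • x) ∧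
      (n = m → ∀ y, (gens A n m f).toExtension.cotangentComplex (h y) = (jac A n m hmn f).det • y) := by
  let P := gens A n m f
  let b := P.cotangentSpaceBasis
  have hker : Ideal.span (Set.range f) = P.toExtension.ker := by
    ext p
    rw [Extension.ker, RingHom.mem_ker]
    show _ ↔ algebraMap P.Ring B p = 0
    rw [Generators.algebraMap_apply, aeval_gens, Ideal.Quotient.eq_zero_iff_mem]
  let fb : Fin m → P.toExtension.Cotangent := fun j =>
    Extension.Cotangent.mk ⟨f j, hker.le (Ideal.subset_span ⟨j, rfl⟩)⟩
  have hspan : Submodule.span B (Set.range fb) = ⊤ :=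
    Extension.Cotangent.span_eq_top_of_span_eq_ker (P := P.toExtension) f hker
  have hd : ∀ (j : Fin m) (l : Fin n), b.repr (P.toExtension.cotangentComplex (fb j)) l =
      Ideal.Quotient.mk (Ideal.span (Set.range f)) (pderiv l (f j)) := by
    intro j l
    simp only [b, fb, Extension.cotangentComplex_mk]
    exact (P.cotangentSpaceBasis_repr_one_tmul (f j) l).trans (aeval_gens A n m f _)
  let J := jac A n m hmn f
  let v : Fin n → P.toExtension.Cotangent := fun l =>
    if hl : (l : ℕ) < m then ∑ j, J.adjugate j ⟨l, hl⟩ • fb j else 0
  let h := b.constr B v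
  have hv : ∀ i : Fin m, v (Fin.castLE hmn i) = ∑ j, J.adjugate j i • fb j := fun i => by
    simp [v, i.2]
  have h1 : ∀ k, h (P.toExtension.cotangentComplex (fb k)) = J.det • fb k := by
    intro k
    calc h (P.toExtension.cotangentComplex (fb k))
        = ∑ l, Ideal.Quotient.mk (Ideal.span (Set.range f)) (pderiv l (f k)) • v l := by
          rw [Module.Basis.constr_apply_fintype]
          exact Finset.sum_congr rfl fun l _ => by rw [Module.Basis.equivFun_apply, hd]
      _ = ∑ i : Fin m, J i k • v (Fin.castLE hmn i) := by
          refine (Finset.sum_of_injOn (fun i => Fin.castLE hmn i) (fun a _ b _ e => Fin.castLE_injective hmn e)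
            (fun a _ => Finset.mem_coe.2 (Finset.mem_univ _)) (fun l _ hl => ?_) fun i _ => rfl).symm
          have : ¬ (l : ℕ) < m := fun hlm => hl ⟨⟨l, hlm⟩, Finset.mem_coe.2 (Finset.mem_univ _), Fin.ext rfl⟩
          simp [v, this]
      _ = ∑ i : Fin m, ∑ j, (J.adjugate j i * J i k) • fb j := by
          refine Finset.sum_congr rfl fun i _ => ?_
          rw [hv, Finset.smul_sum]
          exact Finset.sum_congr rfl fun j _ => by rw [smul_smul, mul_comm]
      _ = ∑ j, (J.adjugate * J) j k • fb j := by
          rw [Finset.sum_comm]
          exact Finset.sum_congr rfl fun j _ => by rw [Matrix.mul_apply, Finset.sum_smul]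
      _ = J.det • fb k := by
          rw [Matrix.adjugate_mul]
          refine (Finset.sum_eq_single k (fun j _ hjk => ?_) (by simp)).trans ?_
          · rw [Matrix.smul_apply, Matrix.one_apply_ne hjk, smul_zero]
            exact zero_smul B (fb j)
          · rw [Matrix.smul_apply, Matrix.one_apply_eq, smul_eq_mul, mul_one]
  refine ⟨h, fun x => ?_, fun hnm y => ?_⟩
  · exact LinearMap.congr_fun (LinearMap.ext_on_range (f := h ∘ₗ P.toExtension.cotangentComplex)
      (g := J.det • LinearMap.id) hspan h1) x
  · subst hnm
    have h2 : P.toExtension.cotangentComplex ∘ₗ h = J.det • LinearMap.id := by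
      refine b.ext fun i => b.repr.injective (Finsupp.ext fun l => ?_)
      have hi : v i = ∑ j, J.adjugate j i • fb j := hv i
      simp only [h, LinearMap.comp_apply, Module.Basis.constr_basis, hi, map_sum, map_smul, Finsupp.coe_finset_sum,
        Finset.sum_apply, Finsupp.smul_apply, LinearMap.smul_apply, LinearMap.id_apply, b.repr_self]
      have e : ∀ j, b.repr (P.toExtension.cotangentComplex (fb j)) l = J l j := fun j => hd j l
      rw [Finset.sum_congr rfl fun j _ => by rw [e j, smul_eq_mul, mul_comm]]
      rw [← Matrix.mul_apply, Matrix.mul_adjugate]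
      by_cases hil : i = l
      · subst hil; simp
      · simp [hil, Ne.symm hil]
    exact LinearMap.congr_fun h2 y

theorem exists_homotopy :
    ∃ H : (Generators.self A B).toExtension.CotangentSpace →ₗ[B] (Generators.self A B).toExtension.Cotangent,
      H ∘ₗ (Generators.self A B).toExtension.cotangentComplex = (jac A n m hmn f).det • LinearMap.id ∧
      (n = m → (Generators.self A B).toExtension.cotangentComplex ∘ₗ H =
        (jac A n m hmn f).det • LinearMap.id) := by
  obtain ⟨h, h1, h2⟩ := exists_homotopy_std A n m hmn f
  let g := (jac A n m hmn f).det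
  let P := (Generators.self A B).toExtension
  let Q := (gens A n m f).toExtension
  let φ : P.Hom Q := ((Generators.self A B).defaultHom (gens A n m f)).toExtensionHom
  let ψ : Q.Hom P := ((gens A n m f).defaultHom (Generators.self A B)).toExtensionHom
  let s : P.CotangentSpace →ₗ[B] P.Cotangent := (Extension.Hom.id P).sub (ψ.comp φ)
  let Hh : P.CotangentSpace →ₗ[B] P.Cotangent :=
    (Extension.Cotangent.map ψ) ∘ₗ h ∘ₗ (Extension.CotangentSpace.map φ)
  have hs1 : ∀ x, s (P.cotangentComplex x) = x - Extension.Cotangent.map ψ (Extension.Cotangent.map φ x) := by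
    intro x
    have := LinearMap.congr_fun (Extension.Cotangent.map_sub_map (Extension.Hom.id P) (ψ.comp φ)) x
    rw [Extension.Cotangent.map_comp] at this
    simpa using this.symm
  have hs2 : ∀ y, P.cotangentComplex (s y) =
      y - Extension.CotangentSpace.map ψ (Extension.CotangentSpace.map φ y) := by
    intro y
    have := LinearMap.congr_fun (Extension.CotangentSpace.map_sub_map (Extension.Hom.id P) (ψ.comp φ)) y
    rw [Extension.CotangentSpace.map_comp] at this
    simpa using this.symm
  refine ⟨g • s + Hh, LinearMap.ext fun x => ?_, fun hnm => LinearMap.ext fun y => ?_⟩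
  · show g • s (P.cotangentComplex x) + Extension.Cotangent.map ψ (h (Extension.CotangentSpace.map φ
      (P.cotangentComplex x))) = g • x
    rw [hs1, Extension.CotangentSpace.map_cotangentComplex, h1, map_smul, smul_sub, sub_add_cancel]
  · show P.cotangentComplex (g • s y + Extension.Cotangent.map ψ (h (Extension.CotangentSpace.map φ y))) = g • y
    rw [map_add, map_smul, hs2, ← Extension.CotangentSpace.map_cotangentComplex, h2 hnm, map_smul, smul_sub,
      sub_add_cancel]

end Groth.Agent.JacExt
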